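import Mathlib
import Cfsg.Agent.Lib.Core.Cores
import Cfsg.Agent.Lib.Transfer.PResidual
import Cfsg.Agent.Lib.LocalEven.PClosed

/-!
# Groups of rank one type: automorphisms fixing a Sylow subgroup pointwise

* `Datum p R U`: the Sylow set is `U` plus one regular `U`-orbit, there is a torus element without
  fixed points in `U` acting on `Z(U)` as the fourth power, and only central elements fix every
  Sylow subgroup.
* `auto_inner`: an automorphism fixing `U` pointwise is inner by an element of `Z(U)`.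
* `eq_one_of_central_fixed`: in a group with such a residual, no nontrivial element of a Sylow
  subgroup is centralised by that Sylow normaliser.
-/

set_option autoImplicit false

namespace CfsgLib.LocalEvenB.RankOne

open Subgroup
open scoped Pointwise

/-- The rank one datum of a Sylow subgroup. -/
structure Datum (p : ℕ) (R : Type*) [Group R] (U : Sylow p R) : Prop where
  torus : ∃ V : Sylow p R, V ≠ U ∧ (∀ W : Sylow p R, W ≠ U → ∃ u ∈ U, u • V = W) ∧
    (∀ u ∈ U, u • V = V → u = 1) ∧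
    ∃ t : R, t • U = U ∧ t • V = V ∧ (∀ u ∈ U, t * u = u * t → u = 1) ∧
      ∀ u ∈ U, (∀ v ∈ U, u * v = v * u) → t * u * t⁻¹ = u ^ 4
  faithful : ∀ g : R, (∀ W : Sylow p R, g • W = W) → g ∈ center R

section

variable {R : Type*} [Group R] [Finite R] {p : ℕ} [hp : Fact p.Prime]

theorem mem_of_normalizes {U : Sylow p R} {g : R} (hg : ∃ k : ℕ, g ^ p ^ k = 1) (hn : g • U = U) :
    g ∈ U := by
  obtain ⟨k, hk⟩ := hg
  have hpg : IsPGroup p (zpowers g) := by
    obtain ⟨j, -, hj⟩ := (Nat.dvd_prime_pow hp.out).1 (orderOf_dvd_of_pow_eq_one hk)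
    exact IsPGroup.of_card (by rw [Nat.card_zpowers, hj])
  have h := hpg.inf_normalizer_sylow U
  have hmem : g ∈ zpowers g ⊓ (U : Subgroup R) := by
    rw [← h]
    exact ⟨mem_zpowers g, Sylow.smul_eq_iff_mem_normalizer.1 hn⟩
  exact hmem.2

theorem pow_p_part {U : Sylow p R} {u : R} (hu : u ∈ U) : ∃ k : ℕ, u ^ p ^ k = 1 := by
  obtain ⟨k, hk⟩ := U.isPGroup' ⟨u, hu⟩
  exact ⟨k, congrArg Subtype.val hk⟩

variable {U : Sylow p R}

/-- The centraliser of `U`. -/
theorem centralizer_decomp (hD : Datum p R U) {y : R} (hy : ∀ v ∈ U, y * v = v * y) :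
    ∃ u ∈ U, (∀ v ∈ U, u * v = v * u) ∧ u⁻¹ * y ∈ center R := by
  obtain ⟨V, hVU, htrans, hreg, -⟩ := hD.torus
  have hyU : y • U = U := by
    rw [Sylow.smul_eq_iff_mem_normalizer]
    exact centralizer_le_normalizer _ (Subgroup.mem_centralizer_iff.2 fun v hv => (hy v hv).symm)
  have hne : y • V ≠ U := fun h => hVU (MulAction.injective y (h.trans hyU.symm))
  obtain ⟨u, hu, huV⟩ := htrans _ hne
  have hpow : ∀ n : ℕ, y ^ n • V = u ^ n • V := by
    intro n
    induction n with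
    | zero => simp
    | succ n ih =>
      have hc : y * u ^ n = u ^ n * y := hy _ (pow_mem hu n)
      rw [pow_succ', mul_smul, ih, smul_smul, hc, mul_smul, ← huV, smul_smul, ← pow_succ]
  obtain ⟨k, m, hm, hkm⟩ :=
    Nat.exists_eq_pow_mul_and_not_dvd (orderOf_pos y).ne' p hp.out.ne_one
  have hymU : y ^ m ∈ U := by
    refine mem_of_normalizes ⟨k, ?_⟩ ?_
    · rw [← pow_mul, mul_comm, ← hkm, pow_orderOf_eq_one]
    · rw [Sylow.smul_eq_iff_mem_normalizer] at hyU ⊢
      exact pow_mem hyU m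
  have hum : u ^ m = y ^ m := by
    have h1 := hpow m
    have h2 : ((y ^ m)⁻¹ * u ^ m) • V = V := by
      rw [mul_smul, ← h1, inv_smul_smul]
    have h3 := hreg _ (U.mul_mem (U.inv_mem hymU) (pow_mem hu m)) h2
    exact (inv_mul_eq_one.1 h3).symm
  obtain ⟨j, hj⟩ := pow_p_part hu
  have hcop : Nat.Coprime m (p ^ j) :=
    Nat.Coprime.pow_right _ ((Nat.Prime.coprime_iff_not_dvd hp.out).2 hm).symm
  have huc : ∀ v ∈ U, u * v = v * u := by
    intro v hv
    obtain ⟨a, ha⟩ := exists_pow_eq_self_of_coprime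
      (hcop.coprime_dvd_right (orderOf_dvd_of_pow_eq_one hj))
    rw [← ha, hum, ← pow_mul]
    exact (Commute.pow_left (hy v hv : Commute y v) _).eq
  refine ⟨u, hu, huc, hD.faithful _ fun W => ?_⟩
  by_cases hW : W = U
  · subst hW
    rw [mul_smul, hyU, inv_smul_eq_iff]
    exact (Sylow.smul_eq_iff_mem_normalizer.2 (le_normalizer hu)).symm
  · obtain ⟨v, hv, rfl⟩ := htrans W hW
    rw [smul_smul, mul_assoc, hy v hv, ← mul_assoc]
    rw [show u⁻¹ * v = v * u⁻¹ from (Commute.inv_left (huc v hv : Commute u v)).eq]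
    rw [mul_assoc, mul_smul, mul_smul, ← huV, inv_smul_smul]

theorem auto_inner (hD : Datum p R U) (hperf : commutator R = ⊤) (α : MulAut R)
    (hα : ∀ u ∈ U, α u = u) :
    ∃ w ∈ U, (∀ v ∈ U, w * v = v * w) ∧ ∀ r, α r = w * r * w⁻¹ := by
  classical
  obtain ⟨V, hVU, htrans, hreg, t, htU, htV, hfix, -⟩ := hD.torus
  have htN : ∀ v ∈ U, t * v * t⁻¹ ∈ U := fun v hv =>
    (Subgroup.mem_normalizer_iff.1 (Sylow.smul_eq_iff_mem_normalizer.1 htU) v).1 hv
  have htN' : ∀ v ∈ U, t⁻¹ * v * t ∈ U := fun v hv =>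
    (Subgroup.mem_normalizer_iff''.1 (Sylow.smul_eq_iff_mem_normalizer.1 htU) v).1 hv
  -- the torus element is moved by an element of the centraliser of `U`
  have hy : ∀ v ∈ U, (t⁻¹ * α t) * v = v * (t⁻¹ * α t) := by
    intro v hv
    have h1 : α (t * v * t⁻¹) = t * v * t⁻¹ := hα _ (htN v hv)
    rw [map_mul, map_mul, map_inv, hα v hv, mul_inv_eq_iff_eq_mul] at h1
    calc t⁻¹ * α t * v = t⁻¹ * (α t * v) := by group
      _ = t⁻¹ * (t * v * t⁻¹ * α t) := by rw [h1]
      _ = v * (t⁻¹ * α t) := by group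
  obtain ⟨c, hc, hcc, hcz⟩ := centralizer_decomp hD hy
  -- correct by an element of the centre of `U`
  obtain ⟨w, hw, hwc, hwt⟩ : ∃ w ∈ U, (∀ v ∈ U, w * v = v * w) ∧ t⁻¹ * w * t * w⁻¹ = c⁻¹ := by
    let Z : Subgroup R := (U : Subgroup R) ⊓ centralizer ((U : Subgroup R) : Set R)
    have hmem : ∀ w : Z, t⁻¹ * (w : R) * t * (w : R)⁻¹ ∈ Z := fun w => by
      refine Z.mul_mem ⟨htN' _ w.2.1, Subgroup.mem_centralizer_iff.2 fun v hv => ?_⟩ (Z.inv_mem w.2)
      have := Subgroup.mem_centralizer_iff.1 w.2.2 _ (htN v hv)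
      calc v * (t⁻¹ * w * t) = t⁻¹ * ((t * v * t⁻¹) * w) * t := by group
        _ = t⁻¹ * (w * (t * v * t⁻¹)) * t := by rw [this]
        _ = t⁻¹ * w * t * v := by group
    let f : Z → Z := fun w => ⟨_, hmem w⟩
    have hinj : Function.Injective f := by
      intro a b hab
      have h1 : t⁻¹ * (a : R) * t * (a : R)⁻¹ = t⁻¹ * (b : R) * t * (b : R)⁻¹ :=
        congrArg Subtype.val hab
      have hcomm : (b : R)⁻¹ * a = a * (b : R)⁻¹ :=
        (Commute.inv_left (Subgroup.mem_centralizer_iff.1 a.2.2 _ b.2.1)).eq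
      have h2 : t * ((b : R)⁻¹ * a) = ((b : R)⁻¹ * a) * t := by
        have h3 : t⁻¹ * ((b : R)⁻¹ * a) * t = (b : R)⁻¹ * a := by
          calc t⁻¹ * ((b : R)⁻¹ * a) * t = (t⁻¹ * b * t)⁻¹ * (t⁻¹ * a * t * (a : R)⁻¹) * a := by group
            _ = (t⁻¹ * b * t)⁻¹ * (t⁻¹ * b * t * (b : R)⁻¹) * a := by rw [h1]
            _ = (b : R)⁻¹ * a := by group
        rw [mul_assoc, inv_mul_eq_iff_eq_mul] at h3
        exact h3.symm
      exact (Subtype.ext (inv_mul_eq_one.1 (hfix _ (mul_mem (inv_mem b.2.1) a.2.1) h2))).symm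
    obtain ⟨w, hw⟩ := (Finite.injective_iff_surjective.1 hinj)
      ⟨c⁻¹, U.inv_mem hc, Subgroup.mem_centralizer_iff.2 fun v hv =>
        ((Commute.inv_left (hcc v hv : Commute c v)).eq).symm⟩
    exact ⟨w, w.2.1, fun v hv => (Subgroup.mem_centralizer_iff.1 w.2.2 v hv).symm,
      congrArg Subtype.val hw⟩
  let β : MulAut R := MulAut.conj w * α
  have hβ : ∀ r, β r = w * α r * w⁻¹ := fun r => rfl
  have hβU : ∀ v ∈ U, β v = v := fun v hv => by
    rw [hβ, hα v hv, hwc v hv, mul_inv_cancel_right]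
  set z := c⁻¹ * (t⁻¹ * α t) with hz
  have hβt : β t = t * z := by
    rw [hβ]
    have h1 : α t = t * (c * z) := by rw [hz]; group
    have h2 : z * w⁻¹ = w⁻¹ * z := ((Subgroup.mem_center_iff.1 hcz) w⁻¹).symm
    calc w * α t * w⁻¹ = w * t * c * (z * w⁻¹) := by rw [h1]; group
      _ = t * (t⁻¹ * w * t) * (c * w⁻¹) * z := by rw [h2]; group
      _ = t * (t⁻¹ * w * t) * (w⁻¹ * c) * z := by
            rw [(Commute.inv_left (hwc c hc : Commute w c)).eq]
      _ = t * ((t⁻¹ * w * t * w⁻¹) * c) * z := by group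
      _ = t * z := by rw [hwt, inv_mul_cancel, mul_one]
  -- `β` permutes the Sylow subgroups
  let act : Sylow p R → Sylow p R := fun W => β • W
  have hact : ∀ (g : R) (W : Sylow p R), act (g • W) = β g • act W := by
    intro g W
    show β • (MulAut.conj g • W) = MulAut.conj (β g) • (β • W)
    rw [smul_smul, smul_smul]
    congr 1
    ext x
    simp
  have hactU : act U = U := by
    refine Sylow.ext (le_antisymm ?_ ?_)
    · rintro x ⟨u, hu, rfl⟩
      show β u ∈ U
      rw [hβU u hu]; exact hu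
    · intro u hu
      exact ⟨u, hu, hβU u hu⟩
  obtain ⟨u, hu, huV⟩ : ∃ u ∈ U, u • V = act V :=
    htrans _ fun h => hVU ((MulAction.injective β) (h.trans hactU.symm))
  have hu1 : u = 1 := by
    have h1 : act V = β t • act V := by rw [← hact, htV]
    rw [hβt, ← huV] at h1
    have hzfix : ∀ W : Sylow p R, z • W = W := fun W => by
      rw [Sylow.smul_eq_iff_mem_normalizer]
      exact centralizer_le_normalizer _
        (Subgroup.mem_centralizer_iff.2 fun x _ => Subgroup.mem_center_iff.1 hcz x)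
    rw [mul_smul, hzfix] at h1
    have h2 : (u⁻¹ * (t * u * t⁻¹)) • V = V := by
      rw [mul_smul, mul_smul, mul_smul, inv_smul_eq_iff.2 htV.symm, ← h1, inv_smul_smul]
    have h3 := inv_mul_eq_one.1 (hreg _ (U.mul_mem (U.inv_mem hu) (htN u hu)) h2)
    exact hfix u hu (by rw [eq_mul_inv_iff_mul_eq] at h3; exact h3.symm)
  have hall : ∀ W : Sylow p R, act W = W := by
    intro W
    by_cases hW : W = U
    · rw [hW]; exact hactU
    · obtain ⟨v, hv, rfl⟩ := htrans W hW
      rw [hact, hβU v hv, ← huV, hu1, one_smul]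
  have hcen : ∀ g, g⁻¹ * β g ∈ center R := fun g => hD.faithful _ fun W => by
    have h := hact g W
    rw [hall, hall] at h
    rw [mul_smul, ← h, inv_smul_smul]
  let φ : R →* center R :=
    MonoidHom.mk' (fun g => ⟨g⁻¹ * β g, hcen g⟩) fun a b => Subtype.ext (by
      show (a * b)⁻¹ * β (a * b) = a⁻¹ * β a * (b⁻¹ * β b)
      rw [map_mul]
      have h := Subgroup.mem_center_iff.1 (hcen a) b⁻¹
      calc (a * b)⁻¹ * (β a * β b) = b⁻¹ * (a⁻¹ * β a) * β b := by group
        _ = a⁻¹ * β a * b⁻¹ * β b := by rw [h]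
        _ = _ := by group)
  have hφ : ∀ g, φ g = 1 := by
    intro g
    have hle : commutator R ≤ φ.ker := by
      rw [_root_.commutator_def, Subgroup.commutator_le]
      intro a _ b _
      rw [MonoidHom.mem_ker, map_commutatorElement]
      exact commutatorElement_eq_one_iff_commute.2 (Subtype.ext
        (Subgroup.mem_center_iff.1 (φ b).2 (φ a : R)))
    rw [hperf] at hle
    exact hle (Subgroup.mem_top g)
  refine ⟨w⁻¹, U.inv_mem hw, fun v hv => (Commute.inv_left (hwc v hv : Commute w v)).eq,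
    fun r => ?_⟩
  have hr : r⁻¹ * β r = 1 := congrArg Subtype.val (hφ r)
  rw [inv_mul_eq_one, hβ] at hr
  conv_rhs => rw [hr]
  group

theorem eq_one_of_mem_ker {H : Type*} [Group H] (φ : R →* H)
    (hk : ∀ x ∈ φ.ker, ∀ k : ℕ, x ^ p ^ k = 1 → x = 1) {W : Sylow p R} {x : R}
    (hx : x ∈ W) (h : φ x = 1) : x = 1 := by
  obtain ⟨k, hk'⟩ := pow_p_part hx
  exact hk x h k hk'

omit [Finite R] hp in
theorem sylow_eq_of_map {H : Type*} [Group H] (φ : R →* H) (hz : φ.ker ≤ center R)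
    {W₁ W₂ : Sylow p R} (h : (W₁ : Subgroup R).map φ = (W₂ : Subgroup R).map φ) : W₁ = W₂ := by
  refine Sylow.ext ((W₁.is_maximal' W₂.isPGroup' ?_).symm)
  intro x hx
  have hxn : x ∈ normalizer ((W₂ : Subgroup R) : Set R) := by
    obtain ⟨y, hy, he⟩ := (h ▸ ⟨x, hx, rfl⟩ : φ x ∈ (W₂ : Subgroup R).map φ)
    have hk : x * y⁻¹ ∈ center R := hz (by rw [MonoidHom.mem_ker, map_mul, map_inv, he, mul_inv_cancel])
    have : x = x * y⁻¹ * y := by group
    rw [this]
    exact mul_mem (centralizer_le_normalizer _ (Subgroup.mem_centralizer_iff.2 fun a _ =>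
      Subgroup.mem_center_iff.1 hk a)) (le_normalizer hy)
  have hpx : IsPGroup p (zpowers x) := W₁.isPGroup'.to_le (zpowers_le.2 hx)
  have h2 := hpx.inf_normalizer_sylow W₂
  have hmem : x ∈ zpowers x ⊓ (W₂ : Subgroup R) := by
    rw [← h2]; exact ⟨mem_zpowers x, hxn⟩
  exact hmem.2

/-- A datum passes through a central `p'`-extension. -/
theorem Datum.map {H : Type*} [Group H] [Finite H] (hD : Datum p R U) (φ : R →* H)
    (hφ : Function.Surjective φ) (hz : φ.ker ≤ center R)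
    (hk : ∀ x ∈ φ.ker, ∀ k : ℕ, x ^ p ^ k = 1 → x = 1) :
    Datum p H (U.mapSurjective hφ) := by
  obtain ⟨⟨V, hVU, htrans, hreg, t, htU, htV, hfix, hpow⟩, hfaith⟩ := hD
  have hinj : ∀ W₁ W₂ : Sylow p R, W₁.mapSurjective hφ = W₂.mapSurjective hφ → W₁ = W₂ :=
    fun W₁ W₂ h => sylow_eq_of_map φ hz (congrArg Sylow.toSubgroup h)
  have hsm : ∀ (g : R) (W : Sylow p R),
      (g • W).mapSurjective hφ = φ g • W.mapSurjective hφ := fun g W => Sylow.ext (by
    ext y
    constructor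
    · rintro ⟨x, ⟨w, hw, rfl⟩, rfl⟩
      exact ⟨φ w, ⟨w, hw, rfl⟩, by simp⟩
    · rintro ⟨x, ⟨w, hw, rfl⟩, rfl⟩
      exact ⟨g * w * g⁻¹, ⟨w, hw, by simp⟩, by simp⟩)
  have hsurj : ∀ W' : Sylow p H, ∃ W : Sylow p R, W.mapSurjective hφ = W' := fun W' => by
    obtain ⟨g', hg'⟩ := MulAction.exists_smul_eq H (U.mapSurjective hφ) W'
    obtain ⟨g, rfl⟩ := hφ g'
    exact ⟨g • U, by rw [hsm, hg']⟩
  refine ⟨⟨V.mapSurjective hφ, fun h => hVU (hinj _ _ h), fun W' hW' => ?_, ?_, φ t,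
    by rw [← hsm, htU], by rw [← hsm, htV], ?_, ?_⟩, fun g' hg' => ?_⟩
  · obtain ⟨W, rfl⟩ := hsurj W'
    obtain ⟨u, hu, rfl⟩ := htrans W fun h => hW' (h ▸ rfl)
    exact ⟨φ u, ⟨u, hu, rfl⟩, (hsm u V).symm⟩
  · rintro _ ⟨u, hu, rfl⟩ h
    rw [← hsm] at h
    rw [hreg u hu (hinj _ _ h), map_one]
  · rintro _ ⟨u, hu, rfl⟩ h
    have hm : t * u * t⁻¹ * u⁻¹ ∈ U := U.mul_mem
      ((Subgroup.mem_normalizer_iff.1 (Sylow.smul_eq_iff_mem_normalizer.1 htU) u).1 hu) (U.inv_mem hu)
    have h1 : φ (t * u * t⁻¹ * u⁻¹) = 1 := by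
      simp only [map_mul, map_inv, h, mul_inv_cancel_right, mul_inv_cancel]
    have h2 := eq_one_of_mem_ker φ hk hm h1
    rw [mul_inv_eq_one, mul_inv_eq_iff_eq_mul] at h2
    rw [hfix u hu h2, map_one]
  · rintro _ ⟨u, hu, rfl⟩ h
    have hc : ∀ v ∈ U, u * v = v * u := fun v hv => by
      have h1 : φ (u * v * u⁻¹ * v⁻¹) = 1 := by
        simp only [map_mul, map_inv, h (φ v) ⟨v, hv, rfl⟩, mul_inv_cancel_right, mul_inv_cancel]
      have h2 := eq_one_of_mem_ker φ hk
        (U.mul_mem (U.mul_mem (U.mul_mem hu hv) (U.inv_mem hu)) (U.inv_mem hv)) h1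
      rw [mul_inv_eq_one, mul_inv_eq_iff_eq_mul] at h2
      exact h2
    rw [← map_inv, ← map_mul, ← map_mul, hpow u hu hc, map_pow]
  · obtain ⟨g, rfl⟩ := hφ g'
    have hg : g ∈ center R := hfaith g fun W => hinj _ _ (by rw [hsm, hg'])
    rw [Subgroup.mem_center_iff]
    intro y
    obtain ⟨x, rfl⟩ := hφ y
    rw [← map_mul, ← map_mul, Subgroup.mem_center_iff.1 hg x]

theorem datum_conj (hD : Datum p R U) (W : Sylow p R) : Datum p R W := by
  obtain ⟨g, rfl⟩ := MulAction.exists_smul_eq R U W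
  let φ : R →* R := (MulAut.conj g).toMonoidHom
  have hs : Function.Surjective φ := (MulAut.conj g).surjective
  have hker : φ.ker = ⊥ := (MonoidHom.ker_eq_bot_iff φ).2 (MulAut.conj g).injective
  have h := hD.map φ hs (by rw [hker]; exact bot_le)
    (fun x hx _ _ => by rw [hker] at hx; exact Subgroup.mem_bot.1 hx)
  have he : U.mapSurjective hs = g • U := Sylow.ext (by ext y; rfl)
  rwa [he] at h

theorem perfect_map {H : Type*} [Group H] (φ : R →* H) (hφ : Function.Surjective φ)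
    (hperf : commutator R = ⊤) : commutator H = ⊤ := by
  rw [_root_.commutator_def, ← Subgroup.map_top_of_surjective φ hφ, ← Subgroup.map_commutator,
    ← _root_.commutator_def, hperf]

end

variable {X : Type*} [Group X] [Finite X] {p : ℕ} [hp : Fact p.Prime]

theorem eq_one_of_mem_centralizer (hcore : Cfsg.pCore p X = ⊥) (R : Subgroup X) [R.Normal]
    (hq : IsPGroup p (X ⧸ R)) {y : X} (hy : y ∈ centralizer (R : Set X)) {k : ℕ}
    (hk : y ^ p ^ k = 1) : y = 1 := by
  set C := centralizer (R : Set X) with hC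
  haveI : C.Normal := by rw [hC]; infer_instance
  let f : C →* X ⧸ R := (QuotientGroup.mk' R).comp C.subtype
  have hker : f.ker ≤ center C := by
    intro x hx
    have hxR : (x : X) ∈ R := (QuotientGroup.eq_one_iff _).1 hx
    rw [Subgroup.mem_center_iff]
    exact fun g => Subtype.ext (Subgroup.mem_centralizer_iff.1 g.2 _ hxR).symm
  haveI : Group.IsNilpotent f.range := (hq.to_subgroup f.range).isNilpotent
  have hnil : Group.IsNilpotent C :=
    Subgroup.isNilpotent_of_ker_le_center f.rangeRestrict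
      (by rw [MonoidHom.ker_rangeRestrict]; exact hker)
  obtain ⟨P⟩ := (Sylow.nonempty : Nonempty (Sylow p C))
  have h03 : ∀ (r : ℕ) (_hr : Fact r.Prime) (P : Sylow r C), (P : Subgroup C).Normal :=
    ((Group.isNilpotent_of_finite_tfae (G := C)).out 0 3).mp hnil
  haveI : (P : Subgroup C).Normal := h03 p hp P
  have h1 : (P : Subgroup C).map C.subtype ≤ Cfsg.pCore p X :=
    (Subgroup.map_mono (CfsgLib.Core.le_pCore P.isPGroup')).trans
      (CfsgLib.Core.map_subtype_pCore_le C)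
  rw [hcore, le_bot_iff] at h1
  have hyP : (⟨y, hy⟩ : C) ∈ P := by
    refine mem_of_normalizes ⟨k, Subtype.ext hk⟩ ?_
    exact Sylow.smul_eq_of_normal
  have h2 : y ∈ (P : Subgroup C).map C.subtype := ⟨_, hyP, rfl⟩
  rwa [h1, Subgroup.mem_bot] at h2

/-- No nontrivial element of a Sylow subgroup is centralised by its normaliser. -/
theorem eq_one_of_central_fixed (hp3 : p ≠ 3) (hcore : Cfsg.pCore p X = ⊥) (R : Subgroup X)
    [R.Normal] (hq : IsPGroup p (X ⧸ R)) (hperf : commutator R = ⊤)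
    (hD : ∃ U : Sylow p R, Datum p R U) (S : Sylow p X) {z : X} (hz : z ∈ S)
    (hc : ∀ n ∈ normalizer ((S : Subgroup X) : Set X), z * n = n * z) : z = 1 := by
  obtain ⟨U, hU⟩ := CfsgLib.LocalEven.exists_sylow_inf S R
  obtain ⟨U₀, hD⟩ := hD
  have hDU := datum_conj hD U
  have hUmem : ∀ u : R, u ∈ U → (u : X) ∈ S := by
    intro u hu
    have : (u : X) ∈ (U : Subgroup R).map R.subtype := ⟨u, hu, rfl⟩
    rw [hU] at this
    exact this.1
  have hUmem' : ∀ u : R, (u : X) ∈ S → u ∈ U := by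
    intro u hu
    have : (u : X) ∈ (U : Subgroup R).map R.subtype := by rw [hU]; exact ⟨hu, u.2⟩
    obtain ⟨v, hv, he⟩ := this
    exact (Subtype.ext he : v = u) ▸ hv
  obtain ⟨w, hw, hwc, hα⟩ := auto_inner hDU hperf (MulAut.conjNormal z) (fun u hu => Subtype.ext (by
    rw [MulAut.conjNormal_apply, hc _ (le_normalizer (hUmem u hu)), mul_inv_cancel_right]))
  obtain ⟨k, hk⟩ := pow_p_part hz
  obtain ⟨j, hj⟩ := pow_p_part hw
  have hzw : Commute (w : X)⁻¹ z :=
    Commute.inv_left (hc _ (le_normalizer (hUmem w hw))).symm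
  have hy : (w : X)⁻¹ * z ∈ centralizer (R : Set X) := by
    rw [Subgroup.mem_centralizer_iff]
    intro r hr
    have h := congrArg (fun s : R => (s : X)) (hα ⟨r, hr⟩)
    simp only [MulAut.conjNormal_apply, Subgroup.coe_mul, Subgroup.coe_inv] at h
    calc r * ((w : X)⁻¹ * z) = (w : X)⁻¹ * ((w : X) * r * (w : X)⁻¹) * z := by group
      _ = (w : X)⁻¹ * (z * r * z⁻¹) * z := by rw [h]
      _ = (w : X)⁻¹ * z * r := by group
  have h1 : (w : X)⁻¹ * z = 1 := eq_one_of_mem_centralizer hcore R hq hy (k := j + k) (by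
    have hjX : (w : X) ^ p ^ j = 1 := by
      rw [← SubgroupClass.coe_pow, hj, OneMemClass.coe_one]
    rw [hzw.mul_pow, inv_pow, pow_add, pow_mul, hjX, one_pow, inv_one, one_mul, mul_comm,
      pow_mul, hk, one_pow])
  rw [inv_mul_eq_one] at h1
  obtain ⟨V, -, -, -, t, -, -, -, hpow⟩ := hDU.torus
  have h4 : (t : X) * z * (t : X)⁻¹ = z ^ 4 := by
    rw [← h1, ← Subgroup.coe_inv, ← Subgroup.coe_mul, ← Subgroup.coe_mul, hpow w hw hwc,
      SubgroupClass.coe_pow]
  -- conjugacy inside the centre of `S` is realised in the normaliser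
  have hzc : z ∈ centralizer ((S : Subgroup X) : Set X) :=
    Subgroup.mem_centralizer_iff.2 fun s hs => (hc s (le_normalizer hs)).symm
  have hz4 : (t⁻¹ : X)⁻¹ * z * (t⁻¹ : X) ∈ centralizer ((S : Subgroup X) : Set X) := by
    rw [inv_inv, h4]
    exact pow_mem hzc 4
  obtain ⟨n, hn, he⟩ := S.conj_eq_normalizer_conj_of_mem_centralizer z (t⁻¹ : X) hzc hz4
  rw [inv_inv, h4, mul_assoc n⁻¹, hc n hn, inv_mul_cancel_left] at he
  have h3 : z ^ 3 = 1 := by
    rw [pow_succ] at he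
    exact mul_right_cancel (he.trans (one_mul z).symm)
  obtain ⟨a, -, ha⟩ := (Nat.dvd_prime_pow hp.out).1 (orderOf_dvd_of_pow_eq_one hk)
  rcases a with _ | a
  · rw [pow_zero] at ha; exact orderOf_eq_one_iff.1 ha
  · exfalso
    have hd : p ∣ 3 := by
      refine (dvd_pow_self p (Nat.succ_ne_zero a)).trans ?_
      rw [← ha]; exact orderOf_dvd_of_pow_eq_one h3
    exact hp3 ((Nat.prime_dvd_prime_iff_eq hp.out Nat.prime_three).1 hd)

end CfsgLib.LocalEvenB.RankOne
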