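import Mathlib
import Cfsg.Agent.Lib.LocalEvenB.RankOne.Datum
import Cfsg.Agent.Lib.Classical.SL2Sylow
import Cfsg.Agent.Lib.Classical.PSLTwoSimple

/-!
# The rank one datum of `SL(2,q)`, `p ≥ 5`
-/

set_option autoImplicit false

namespace CfsgLib.LocalEvenB.RankOne

open Matrix Subgroup
open CfsgLib.Classical.Two
open scoped MatrixGroups Pointwise LinearAlgebra.Projectivization

variable {F : Type*} [Field F] [Fintype F] {p : ℕ} [hp : Fact p.Prime] [CharP F p]

/-- The root group of a point as a Sylow subgroup. -/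
noncomputable def rootSylow (x : ℙ F (Fin 2 → F)) : Sylow p SL(2, F) :=
  Sylow.ofCard (rootGroup x) (by
    obtain ⟨P⟩ := (Sylow.nonempty : Nonempty (Sylow p SL(2, F)))
    rw [card_rootGroup, Nat.card_eq_fintype_card, ← card_sylow_SL_two p P,
      Sylow.card_eq_multiplicity])

theorem coe_rootSylow (x : ℙ F (Fin 2 → F)) :
    ((rootSylow x : Sylow p SL(2, F)) : Subgroup SL(2, F)) = rootGroup x := rfl

theorem exists_rootSylow (W : Sylow p SL(2, F)) : ∃ x, W = rootSylow x := by
  obtain ⟨x, hx⟩ := exists_point_sylow_SL p W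
  exact ⟨x, Sylow.ext hx⟩

theorem smul_rootSylow (g : SL(2, F)) (x : ℙ F (Fin 2 → F)) :
    g • (rootSylow x : Sylow p SL(2, F)) = rootSylow (g • x) := by
  refine Sylow.ext ?_
  rw [coe_rootSylow, rootGroup_smul]
  rfl

theorem rootSylow_injective {x y : ℙ F (Fin 2 → F)}
    (h : (rootSylow x : Sylow p SL(2, F)) = rootSylow y) : x = y :=
  rootGroup_injective (congrArg Sylow.toSubgroup h)

omit [Fintype F] [CharP F p] hp in
theorem smul_mk_eq (g : SL(2, F)) {v w : Fin 2 → F} (hv : v ≠ 0) (hw : w ≠ 0) {a : F}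
    (h : a • w = (g : Matrix (Fin 2) (Fin 2) F) *ᵥ v) :
    g • Projectivization.mk F v hv = Projectivization.mk F w hw :=
  (Projectivization.mk_eq_mk_iff' F _ _ _ _).2 ⟨a, h⟩

omit [Fintype F] [CharP F p] hp in
theorem col_prop_of_smul_eq {g : SL(2, F)} {v : Fin 2 → F} {hv : v ≠ 0}
    (h : g • Projectivization.mk F v hv = Projectivization.mk F v hv) :
    ∃ a : F, a • v = (g : Matrix (Fin 2) (Fin 2) F) *ᵥ v :=
  (Projectivization.mk_eq_mk_iff' F _ _ _ _).1 h

/-- The upper unitriangular element. -/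
def upper (b : F) : SL(2, F) := ⟨!![1, b; 0, 1], by simp [Matrix.det_fin_two]⟩

omit [Fintype F] [CharP F p] hp in
theorem coe_upper (b : F) : (upper b : Matrix (Fin 2) (Fin 2) F) = !![1, b; 0, 1] := rfl

theorem mem_rootSylow_zero {u : SL(2, F)} (hu : u ∈ (rootSylow (basePoint F 0) : Sylow p SL(2, F))) :
    ∃ b, u = upper b := by
  change u ∈ ((rootGroup (basePoint F 0) : Subgroup SL(2, F)) : Set SL(2, F)) at hu
  rw [rootGroup_basePoint] at hu
  obtain ⟨b, rfl⟩ := hu
  refine ⟨b, Subtype.ext ?_⟩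
  ext i j
  fin_cases i <;> fin_cases j <;> simp [coe_upper, SpecialLinearGroup.transvection_coe, Matrix.single]

theorem upper_mem_rootSylow (b : F) :
    upper b ∈ (rootSylow (basePoint F 0) : Sylow p SL(2, F)) := by
  show upper b ∈ ((rootGroup (basePoint F 0) : Subgroup SL(2, F)) : Set SL(2, F))
  rw [rootGroup_basePoint]
  refine ⟨b, Subtype.ext ?_⟩
  ext i j
  fin_cases i <;> fin_cases j <;> simp [coe_upper, SpecialLinearGroup.transvection_coe, Matrix.single]

/-- The torus element. -/
def torusTwo (h : (2 : F) ≠ 0) : SL(2, F) :=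
  ⟨!![2, 0; 0, 2⁻¹], by rw [Matrix.det_fin_two]; simp [h]⟩

omit [Fintype F] [CharP F p] hp in
theorem coe_torusTwo (h : (2 : F) ≠ 0) :
    (torusTwo h : Matrix (Fin 2) (Fin 2) F) = !![2, 0; 0, 2⁻¹] := rfl

theorem datum_SL2 (hp5 : 5 ≤ p) : ∃ U : Sylow p SL(2, F), Datum p SL(2, F) U := by
  classical
  have h2 : (2 : F) ≠ 0 := by
    intro h
    have h' : ((2 : ℕ) : F) = 0 := by exact_mod_cast h
    rw [CharP.cast_eq_zero_iff F p] at h'
    exact absurd (Nat.le_of_dvd two_pos h') (by omega)
  have h3 : (3 : F) ≠ 0 := by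
    intro h
    have h' : ((3 : ℕ) : F) = 0 := by exact_mod_cast h
    rw [CharP.cast_eq_zero_iff F p] at h'
    exact absurd (Nat.le_of_dvd (by omega) h') (by omega)
  refine ⟨rootSylow (basePoint F 0), ⟨⟨rootSylow (basePoint F 1), ?_, ?_, ?_, ?_⟩, ?_⟩⟩
  · intro h
    have h' := rootSylow_injective h
    rw [basePoint, basePoint, Projectivization.mk_eq_mk_iff'] at h'
    obtain ⟨a, ha⟩ := h'
    simpa using congrFun ha 1
  · intro W hW
    obtain ⟨x, rfl⟩ := exists_rootSylow W
    induction x using Projectivization.ind with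
    | h v hv =>
      have hv1 : v 1 ≠ 0 := by
        intro h1
        apply hW
        congr 1
        rw [basePoint, Projectivization.mk_eq_mk_iff']
        exact ⟨v 0, by funext i; fin_cases i <;> simp [h1]⟩
      refine ⟨upper (v 0 / v 1), upper_mem_rootSylow _, ?_⟩
      rw [smul_rootSylow]
      congr 1
      refine smul_mk_eq _ _ hv (a := (v 1)⁻¹) ?_
      funext i
      fin_cases i <;> simp [coe_upper, Matrix.mulVec, dotProduct, Fin.sum_univ_two] <;> field_simp
  · intro u hu h
    obtain ⟨b, rfl⟩ := mem_rootSylow_zero hu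
    rw [smul_rootSylow] at h
    obtain ⟨a, ha⟩ := col_prop_of_smul_eq (rootSylow_injective h)
    have h0 := congrFun ha 0
    simp [coe_upper, Matrix.mulVec, dotProduct, Fin.sum_univ_two] at h0
    subst h0
    refine Subtype.ext ?_
    ext i j
    fin_cases i <;> fin_cases j <;> simp [coe_upper]
  · refine ⟨torusTwo h2, ?_, ?_, ?_, ?_⟩
    · rw [smul_rootSylow]
      congr 1
      refine smul_mk_eq _ _ _ (a := 2) ?_
      funext i
      fin_cases i <;> simp [coe_torusTwo, Matrix.mulVec, dotProduct, Fin.sum_univ_two]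
    · rw [smul_rootSylow]
      congr 1
      refine smul_mk_eq _ _ _ (a := 2⁻¹) ?_
      funext i
      fin_cases i <;> simp [coe_torusTwo, Matrix.mulVec, dotProduct, Fin.sum_univ_two]
    · intro u hu h
      obtain ⟨b, rfl⟩ := mem_rootSylow_zero hu
      have h' := congrFun (congrFun (congrArg Subtype.val h) 0) 1
      simp [coe_upper, coe_torusTwo, SpecialLinearGroup.coe_mul, Matrix.mul_apply, Fin.sum_univ_two] at h'
      have hb : (3 : F) * b = 0 := by
        field_simp at h'
        linear_combination h'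
      rw [mul_eq_zero, or_iff_right h3] at hb
      subst hb
      refine Subtype.ext ?_
      ext i j
      fin_cases i <;> fin_cases j <;> simp [coe_upper]
    · intro u hu _
      obtain ⟨b, rfl⟩ := mem_rootSylow_zero hu
      have hmul : ∀ a c : F, upper a * upper c = upper (a + c) := fun a c => Subtype.ext (by
        ext i j
        fin_cases i <;> fin_cases j <;> simp [coe_upper, SpecialLinearGroup.coe_mul, Matrix.mul_apply, Fin.sum_univ_two, add_comm])
      have hpow : upper b ^ 4 = upper (4 * b) := by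
        rw [show (4 : ℕ) = 2 * 2 from rfl, pow_mul, pow_two, pow_two, hmul, hmul]
        congr 1; ring
      rw [hpow, mul_inv_eq_iff_eq_mul]
      refine Subtype.ext ?_
      ext i j
      fin_cases i <;> fin_cases j <;> simp [coe_upper, coe_torusTwo, SpecialLinearGroup.coe_mul, Matrix.mul_apply, Fin.sum_univ_two] <;>
        field_simp <;> ring
  · intro g hg
    have hfix : ∀ (v : Fin 2 → F) (hv : v ≠ 0),
        ∃ a : F, a • v = (g : Matrix (Fin 2) (Fin 2) F) *ᵥ v := fun v hv => by
      refine col_prop_of_smul_eq (hv := hv) (rootSylow_injective (p := p) ?_)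
      rw [← smul_rootSylow, hg]
    obtain ⟨a, ha⟩ := hfix ![1, 0] (by simp)
    obtain ⟨d, hd⟩ := hfix ![0, 1] (by simp)
    obtain ⟨e, he⟩ := hfix ![1, 1] (by simp)
    have ha0 := congrFun ha 0
    have ha1 := congrFun ha 1
    have hd0 := congrFun hd 0
    have hd1 := congrFun hd 1
    have he0 := congrFun he 0
    have he1 := congrFun he 1
    simp [Matrix.mulVec, dotProduct, Fin.sum_univ_two] at ha0 ha1 hd0 hd1 he0 he1
    rw [Subgroup.mem_center_iff]
    intro x
    refine Subtype.ext ?_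
    have hg' : (g : Matrix (Fin 2) (Fin 2) F) = a • (1 : Matrix (Fin 2) (Fin 2) F) := by
      ext i j
      fin_cases i <;> fin_cases j <;> simp [← ha0, ← ha1, ← hd0, ← hd1] at he0 he1 ⊢
      rw [← he1, he0]
    show (x : Matrix (Fin 2) (Fin 2) F) * g = g * x
    rw [hg', mul_smul_comm, smul_mul_assoc, mul_one, one_mul]

theorem commutator_SL2_top (hp5 : 5 ≤ p) : commutator SL(2, F) = ⊤ := by
  refine CfsgLib.Classical.commutator_SL_two_eq_top ?_
  obtain ⟨n, -, hn⟩ := FiniteField.card F p
  rw [hn]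
  have := Nat.le_self_pow n.pos.ne' p
  omega

theorem center_pow_SL2 (hp2 : p ≠ 2) {x : SL(2, F)} (hx : x ∈ center SL(2, F)) {k : ℕ}
    (hk : x ^ p ^ k = 1) : x = 1 := by
  obtain ⟨r, hr, hrx⟩ := Matrix.SpecialLinearGroup.mem_center_iff.1 hx
  have hodd : Odd (p ^ k) := (hp.out.odd_of_ne_two hp2).pow
  have hr2 : r ^ 2 = 1 := by simpa using hr
  have hrk : r ^ p ^ k = 1 := by
    have h := congrFun (congrFun (congrArg Subtype.val hk) 0) 0
    rw [Matrix.SpecialLinearGroup.coe_pow, ← hrx, ← map_pow] at h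
    simpa [Matrix.scalar] using h
  obtain ⟨m, hm⟩ := hodd
  rw [hm, pow_succ, pow_mul, hr2, one_pow, one_mul] at hrk
  subst hrk
  exact Subtype.ext (by rw [← hrx]; simp)

end CfsgLib.LocalEvenB.RankOne
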