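import Mathlib
import Cfsg.Agent.Lib.LocalEvenB.RankOne.Datum
import Cfsg.Agent.Lib.LocalEven.UnitaryCenter
import Cfsg.Agent.Lib.Classical.Unitary.MatrixStructure

/-!
# The rank one datum of a three dimensional special unitary group, `p ≥ 5`

The Sylow subgroups in the defining characteristic are the stabilisers of isotropic vectors.
-/

set_option autoImplicit false

namespace CfsgLib.LocalEvenB.RankOne.Unitary

open CfsgLib.Classical.Herm Subgroup
open scoped Pointwise

variable {F : Type*} [Field F] {V : Type*} [AddCommGroup V] [Module F V] {σ : F →+* F}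
  {B : V →ₛₗ[σ] V →ₗ[F] F}

/-- The isometry as a linear equivalence. -/
abbrev app (g : HSU B) : V ≃ₗ[F] V := ((g : HU B) : V ≃ₗ[F] V)

/-- The stabiliser of a vector. -/
def vStab (B : V →ₛₗ[σ] V →ₗ[F] F) (u : V) : Subgroup (HSU B) where
  carrier := {g | app g u = u}
  one_mem' := rfl
  mul_mem' := fun {g k} hg hk => by
    show app g (app k u) = u
    rw [show app k u = u from hk]; exact hg
  inv_mem' := fun {g} hg => by
    show (app g).symm u = u
    rw [LinearEquiv.symm_apply_eq]; exact hg.symm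

theorem mem_vStab {g : HSU B} {u : V} : g ∈ vStab B u ↔ app g u = u := Iff.rfl

theorem app_mul (g k : HSU B) (v : V) : app (g * k) v = app g (app k v) := rfl

theorem vStab_smul {a : F} (ha : a ≠ 0) (u : V) : vStab B (a • u) = vStab B u := by
  ext g
  rw [mem_vStab, mem_vStab, map_smul]
  exact ⟨fun h => smul_right_injective V ha h, fun h => by rw [h]⟩

theorem conj_vStab (g : HSU B) (u : V) :
    MulAut.conj g • vStab B u = vStab B (app g u) := by
  ext x
  rw [Subgroup.mem_pointwise_smul_iff_inv_smul_mem, mem_vStab, mem_vStab, ← map_inv,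
    MulAut.smul_def, MulAut.conj_apply, inv_inv, app_mul, app_mul]
  show (app g).symm (app x (app g u)) = u ↔ _
  rw [LinearEquiv.symm_apply_eq]

/-- A hyperbolic pair and an orthogonal vector. -/
structure Frame (B : V →ₛₗ[σ] V →ₗ[F] F) (u f w : V) : Prop where
  uu : B u u = 0
  ff : B f f = 0
  uf : B u f = 1
  fu : B f u = 1
  uw : B u w = 0
  fw : B f w = 0
  wu : B w u = 0
  wf : B w f = 0
  ww : B w w = 1

variable [Finite F] [FiniteDimensional F V] (h : IsHerm B) (h3 : Module.finrank F V = 3)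
include h h3

theorem exists_frame {u f : V} (huu : B u u = 0) (hff : B f f = 0) (huf : B u f = 1) :
    ∃ w, Frame B u f w := by
  have hfu : B f u = 1 := by rw [← h.symm, huf, map_one]
  have hd := h.hyperbolic_disc (f := f) huu huf
  have hr := h.finrank_orth (h.pair_nondeg hd)
  rw [h.pair_finrank hd, h3] at hr
  obtain ⟨w, hw, hww⟩ := h.exists_norm_in (h.orth_nondeg (h.pair_nondeg hd)) (by omega) (map_one σ)
  rw [h.mem_orth] at hw
  have huw : B u w = 0 := hw u (Submodule.subset_span (Set.mem_insert u _))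
  have hfw : B f w = 0 := hw f (Submodule.subset_span (Set.mem_insert_of_mem u rfl))
  exact ⟨w, huu, hff, huf, hfu, huw, hfw, h.eq_zero_symm huw, h.eq_zero_symm hfw, hww⟩

theorem Frame.coords {u f w : V} (hf : Frame B u f w) (y : V) :
    ∃ a b c : F, y = a • u + b • f + c • w := by
  have hli := CfsgLib.LocalEven.UCenter.pairing_basis h hf.uu hf.ff hf.uf hf.uw hf.fw
    (hf.ww ▸ one_ne_zero)
  let b := basisOfLinearIndependentOfCardEqFinrank hli (by simp [h3])
  refine ⟨b.repr y 0, b.repr y 1, b.repr y 2, ?_⟩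
  conv_lhs => rw [← b.sum_repr y]
  simp [Fin.sum_univ_three, b]

theorem exists_full_frame {u : V} (hu : u ≠ 0) (huu : B u u = 0) :
    ∃ f w, Frame B u f w := by
  obtain ⟨f, huf, hff⟩ := h.exists_isotropic_partner hu huu
  obtain ⟨w, hw⟩ := exists_frame h h3 huu hff huf
  exact ⟨f, w, hw⟩

/-- An isotropic vector orthogonal to an isotropic vector is a multiple of it. -/
theorem exists_smul_eq {u x : V} (hu : u ≠ 0) (huu : B u u = 0) (hxx : B x x = 0)
    (hux : B u x = 0) : ∃ a : F, x = a • u := by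
  obtain ⟨f, w, hf⟩ := exists_full_frame h h3 hu huu
  obtain ⟨a, b, c, rfl⟩ := hf.coords h h3 x
  simp only [map_add, smul_right, hf.uu, hf.uf, hf.uw, mul_zero, mul_one, zero_add, add_zero] at hux
  subst hux
  simp only [map_add, LinearMap.add_apply, smul_left, smul_right, map_zero, hf.uu, hf.uf, hf.fu,
    hf.ff, hf.uw, hf.wu, hf.fw, hf.wf, hf.ww, mul_zero, mul_one, zero_mul, zero_add,
    add_zero] at hxx
  have hc : c = 0 := by
    rcases mul_eq_zero.1 hxx with h1 | h1
    · exact h1
    · exact h.invol.invol c ▸ (by rw [h1, map_zero])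
  exact ⟨a, by rw [hc]; simp⟩

theorem Frame.shape {u f w : V} (hf : Frame B u f w) {g : HSU B} (hg : app g u = u) :
    ∃ t s r : F, app g f = t • u + f + s • w ∧ app g w = r • u + w ∧ σ r = -s := by
  obtain ⟨L, hL⟩ : ∃ L : V ≃ₗ[F] V, L = app g := ⟨_, rfl⟩
  have hpres : ∀ y z, B (L y) (L z) = B y z := fun y z => hL ▸ HU.map_eq (g : HU B) y z
  rw [← hL] at hg ⊢
  obtain ⟨t, t', s, hLf⟩ := hf.coords h h3 (L f)
  obtain ⟨r, r', l, hLw⟩ := hf.coords h h3 (L w)
  have h1 : t' = 1 := by
    have h2 : B u (L f) = 1 := by rw [← hg, hpres]; exact hf.uf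
    simpa only [hLf, map_add, smul_right, hf.uu, hf.uf, hf.uw, mul_zero, mul_one, zero_add,
      add_zero] using h2
  have h0 : r' = 0 := by
    have h2 : B u (L w) = 0 := by rw [← hg, hpres]; exact hf.uw
    simpa only [hLw, map_add, smul_right, hf.uu, hf.uf, hf.uw, mul_zero, mul_one, zero_add,
      add_zero] using h2
  subst h1 h0
  rw [one_smul] at hLf
  rw [zero_smul, add_zero] at hLw
  have hli := CfsgLib.LocalEven.UCenter.pairing_basis h hf.uu hf.ff hf.uf hf.uw hf.fw
    (hf.ww ▸ one_ne_zero)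
  let b : Module.Basis (Fin 3) F V := basisOfLinearIndependentOfCardEqFinrank hli (by simp [h3])
  have hb : ∀ i, b i = ![u, f, w] i := fun i => by simp [b]
  have hru : b.repr u = Finsupp.single (0 : Fin 3) 1 := by
    rw [show u = b 0 from (hb 0).symm, Module.Basis.repr_self]
  have hrf : b.repr f = Finsupp.single (1 : Fin 3) 1 := by
    rw [show f = b 1 from (hb 1).symm, Module.Basis.repr_self]
  have hrw : b.repr w = Finsupp.single (2 : Fin 3) 1 := by
    rw [show w = b 2 from (hb 2).symm, Module.Basis.repr_self]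
  have hdet : (LinearMap.toMatrix b b (L : V →ₗ[F] V)).det = 1 := by
    rw [LinearMap.det_toMatrix, ← LinearEquiv.coe_det, hL]
    exact congrArg Units.val g.2
  rw [Matrix.det_fin_three] at hdet
  simp only [LinearMap.toMatrix_apply, LinearEquiv.coe_coe, hb, Matrix.cons_val_zero,
    Matrix.cons_val_one, Matrix.cons_val, hg, hLf, hLw, map_add, map_smul, hru, hrf, hrw] at hdet
  simp at hdet
  subst hdet
  rw [one_smul] at hLw
  refine ⟨t, s, r, hLf, hLw, ?_⟩
  have h4 := hpres w f
  rw [hLf, hLw, hf.wf] at h4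
  simp only [map_add, LinearMap.add_apply, smul_left, smul_right, hf.uu, hf.uf, hf.uw, hf.wu,
    hf.wf, hf.ww, mul_zero, mul_one, zero_add, add_zero] at h4
  linear_combination h4

theorem Frame.ext_one {u f w : V} (hf : Frame B u f w) {g : HSU B} (hu : app g u = u)
    (hf' : app g f = f) : g = 1 := by
  obtain ⟨t, s, r, e1, e2, e3⟩ := hf.shape h h3 hu
  have hs : s = 0 := by
    have h1 := congrArg (B w) (hf'.symm.trans e1)
    simpa only [map_add, smul_right, hf.wu, hf.wf, hf.ww, mul_zero, mul_one, zero_add, add_zero]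
      using h1.symm
  subst hs
  have hr : r = 0 := by
    rw [← h.invol.invol r, e3, neg_zero, map_zero]
  subst hr
  refine Subtype.ext (Subtype.ext (LinearEquiv.ext fun y => ?_))
  obtain ⟨a, b, c, rfl⟩ := hf.coords h h3 y
  show app g _ = _
  simp [map_add, hu, hf', e2]

theorem exists_ne_one_vStab {u : V} (hu : u ≠ 0) (huu : B u u = 0) :
    ∃ g ∈ vStab B u, g ≠ 1 := by
  obtain ⟨f, w, hf⟩ := exists_full_frame h h3 hu huu
  obtain ⟨θ, h0, hθ⟩ := h.exists_skew
  refine ⟨⟨h.tr huu hθ, h.det_tr huu hθ⟩, h.tr_fix huu hθ huu, fun h1 => ?_⟩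
  have h2 : (h.tr huu hθ : V ≃ₗ[F] V) f = f := by
    rw [show h.tr huu hθ = 1 from congrArg Subtype.val h1]; rfl
  rw [h.tr_apply, hf.uf, mul_one, add_eq_left, smul_eq_zero] at h2
  exact h2.elim h0 hu

theorem vStab_eq_imp {u x : V} (hu : u ≠ 0) (huu : B u u = 0) (hxx : B x x = 0)
    (he : vStab B u ≤ vStab B x) : ∃ a : F, x = a • u := by
  by_cases hux : B u x = 0
  · exact exists_smul_eq h h3 hu huu hxx hux
  exfalso
  obtain ⟨g, hg, hg1⟩ := exists_ne_one_vStab h h3 hu huu
  obtain ⟨w, hw⟩ := exists_frame h h3 huu (f := (B u x)⁻¹ • x)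
    (by rw [smul_left, smul_right, hxx, mul_zero, mul_zero])
    (by rw [smul_right, inv_mul_cancel₀ hux])
  exact hg1 (hw.ext_one h h3 hg (by rw [map_smul, show app g x = x from he hg]))

variable {p : ℕ} [hp : Fact p.Prime] [CharP F p]

theorem isPGroup_vStab {u : V} (hu : u ≠ 0) (huu : B u u = 0) : IsPGroup p (vStab B u) := by
  obtain ⟨f, w, hf⟩ := exists_full_frame h h3 hu huu
  intro g
  obtain ⟨t, s, r, hf', hw', -⟩ := hf.shape h h3 g.2
  refine ⟨2, Subtype.ext (Subtype.ext (Subtype.ext ?_))⟩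
  obtain ⟨E, hE⟩ : ∃ E : Module.End F V, E = (app g.1).toLinearMap - 1 := ⟨_, rfl⟩
  have hE3 : E ^ 3 = 0 := by
    refine LinearMap.ext fun y => ?_
    obtain ⟨a, b, c, rfl⟩ := hf.coords h h3 y
    have eu : E u = 0 := by rw [hE]; simp [show app g.1 u = u from g.2]
    have ew : E w = r • u := by rw [hE]; simp [hw']
    have ef : E f = t • u + s • w := by rw [hE]; simp [hf']; abel
    rw [pow_succ, pow_succ, pow_one, Module.End.mul_apply, Module.End.mul_apply,
      LinearMap.zero_apply]
    simp [eu, ew, ef, map_add, map_smul]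
  haveI : CharP (Module.End F V) p := by
    haveI : Nontrivial V := Module.nontrivial_of_finrank_pos (R := F) (by omega)
    exact charP_of_injective_ringHom (algebraMap F (Module.End F V)).injective p
  have hEp : E ^ p ^ 2 = 0 := pow_eq_zero_of_le (by have := hp.out.two_le; nlinarith) hE3
  rw [hE, sub_pow_char_pow_of_commute p 2 (Commute.one_right _), one_pow, sub_eq_zero] at hEp
  refine LinearEquiv.toLinearMap_injective ?_
  have hpow : ∀ (L : V ≃ₗ[F] V) (n : ℕ), (L ^ n).toLinearMap = L.toLinearMap ^ n := by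
    intro L n
    induction n with
    | zero => rfl
    | succ n ih => rw [pow_succ, pow_succ, ← ih]; rfl
  simp only [SubgroupClass.coe_pow, OneMemClass.coe_one, hpow]
  rw [hEp]; rfl

theorem exists_vStab_eq (P : Sylow p (HSU B)) :
    ∃ u : V, u ≠ 0 ∧ B u u = 0 ∧ (P : Subgroup (HSU B)) = vStab B u := by
  obtain ⟨u, hu, huu, hug⟩ :=
    CfsgLib.LocalEven.UCenter.exists_fixed_isotropic h h3 (p := p) P P.isPGroup'
  exact ⟨u, hu, huu, (P.is_maximal' (isPGroup_vStab h h3 hu huu) fun g hg => hug g hg).symm⟩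

theorem exists_sylow_eq {u : V} (hu : u ≠ 0) (huu : B u u = 0) :
    ∃ P : Sylow p (HSU B), (P : Subgroup (HSU B)) = vStab B u := by
  haveI : Finite V := Module.finite_of_finite F
  obtain ⟨P, hP⟩ := (isPGroup_vStab (p := p) h h3 hu huu).exists_le_sylow
  obtain ⟨x, hx, hxx, hPx⟩ := exists_vStab_eq h h3 P
  obtain ⟨a, rfl⟩ := vStab_eq_imp h h3 hu huu hxx (hPx ▸ hP)
  have ha : a ≠ 0 := by rintro rfl; simp at hx
  exact ⟨P, by rw [hPx, vStab_smul ha]⟩

theorem smul_vSylow {g : HSU B} {P Q : Sylow p (HSU B)} {u x : V}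
    (hP : (P : Subgroup (HSU B)) = vStab B u) (hQ : (Q : Subgroup (HSU B)) = vStab B x) {a : F}
    (ha : a ≠ 0) (hg : app g u = a • x) : g • P = Q := by
  refine Sylow.ext ?_
  show MulAut.conj g • (P : Subgroup (HSU B)) = Q
  rw [hP, hQ, conj_vStab, hg, vStab_smul ha]

theorem exists_torus {u f w : V} (hf : Frame B u f w) (h2 : (2 : F) ≠ 0) :
    ∃ t : HSU B, app t u = (2 : F) • u ∧ app t f = (2 : F)⁻¹ • f ∧ app t w = w := by
  have hli := CfsgLib.LocalEven.UCenter.pairing_basis h hf.uu hf.ff hf.uf hf.uw hf.fw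
    (hf.ww ▸ one_ne_zero)
  let b : Module.Basis (Fin 3) F V := basisOfLinearIndependentOfCardEqFinrank hli (by simp [h3])
  have hb : ∀ i, b i = ![u, f, w] i := fun i => by simp [b]
  let φ : V →ₗ[F] V := b.constr F ![(2 : F) • u, (2 : F)⁻¹ • f, w]
  have hφ : φ u = (2 : F) • u ∧ φ f = (2 : F)⁻¹ • f ∧ φ w = w := by
    refine ⟨?_, ?_, ?_⟩
    · conv_lhs => rw [show u = b 0 from (hb 0).symm]
      simp [φ]
    · conv_lhs => rw [show f = b 1 from (hb 1).symm]
      simp [φ]
    · conv_lhs => rw [show w = b 2 from (hb 2).symm]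
      simp [φ]
  have hσ : σ 2 = 2 := map_ofNat σ 2
  have hpres : ∀ y z, B (φ y) (φ z) = B y z := by
    intro y z
    obtain ⟨a, c, d, rfl⟩ := hf.coords h h3 y
    obtain ⟨a', c', d', rfl⟩ := hf.coords h h3 z
    simp only [map_add, map_smul, hφ.1, hφ.2.1, hφ.2.2, LinearMap.add_apply, smul_left,
      smul_right, hf.uu, hf.ff, hf.uf, hf.fu, hf.uw, hf.wu, hf.fw, hf.wf, hf.ww, map_inv₀, hσ,
      mul_zero, mul_one, add_zero, zero_add, smul_smul, smul_eq_mul, map_mul]
    field_simp
  refine ⟨⟨h.ofPreserves φ hpres, MonoidHom.mem_ker.2 (Units.ext ?_)⟩, hφ.1, hφ.2.1, hφ.2.2⟩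
  show ((LinearEquiv.det (h.ofPreserves φ hpres : V ≃ₗ[F] V) : Fˣ) : F) = 1
  rw [LinearEquiv.coe_det, IsHerm.coe_ofPreserves, ← LinearMap.det_toMatrix b, Matrix.det_fin_three]
  have hru : b.repr u = Finsupp.single (0 : Fin 3) 1 := by
    rw [show u = b 0 from (hb 0).symm, Module.Basis.repr_self]
  have hrf : b.repr f = Finsupp.single (1 : Fin 3) 1 := by
    rw [show f = b 1 from (hb 1).symm, Module.Basis.repr_self]
  have hrw : b.repr w = Finsupp.single (2 : Fin 3) 1 := by
    rw [show w = b 2 from (hb 2).symm, Module.Basis.repr_self]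
  simp only [LinearMap.toMatrix_apply, hb, Matrix.cons_val_zero, Matrix.cons_val_one,
    Matrix.cons_val, hφ.1, hφ.2.1, hφ.2.2, map_smul, hru, hrf, hrw]
  simp [h2]

omit hp [CharP F p] h3 in
theorem tr_pow {u : V} (hu : B u u = 0) {c : F} (hc : c + σ c = 0) (n : ℕ) (y : V) :
    ((h.tr hu hc ^ n : HU B) : V ≃ₗ[F] V) y = y + ((n : F) * c * B u y) • u := by
  induction n generalizing y with
  | zero => simp
  | succ n ih =>
    rw [pow_succ', Subgroup.coe_mul, LinearEquiv.mul_apply, ih, h.tr_apply, map_add, smul_right,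
      hu, mul_zero, add_zero]
    push_cast
    match_scalars <;> ring

theorem datum_HSU (hp5 : 5 ≤ p) : ∃ U : Sylow p (HSU B), Datum p (HSU B) U := by
  classical
  haveI : Finite V := Module.finite_of_finite F
  have h2 : (2 : F) ≠ 0 := by
    intro h'
    have h'' : ((2 : ℕ) : F) = 0 := by exact_mod_cast h'
    rw [CharP.cast_eq_zero_iff F p] at h''
    exact absurd (Nat.le_of_dvd two_pos h'') (by omega)
  have h30 : (3 : F) ≠ 0 := by
    intro h'
    have h'' : ((3 : ℕ) : F) = 0 := by exact_mod_cast h'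
    rw [CharP.cast_eq_zero_iff F p] at h''
    exact absurd (Nat.le_of_dvd (by omega) h'') (by omega)
  obtain ⟨u, hu, huu⟩ := h.exists_isotropic (by omega)
  obtain ⟨f, w, hf⟩ := exists_full_frame h h3 hu huu
  have hf0 : f ≠ 0 := fun h0 => by simpa [h0] using hf.uf
  obtain ⟨U, hU⟩ := exists_sylow_eq (p := p) h h3 hu huu
  obtain ⟨W₀, hW₀⟩ := exists_sylow_eq (p := p) h h3 hf0 hf.ff
  obtain ⟨t, htu, htf, htw⟩ := exists_torus h h3 hf h2
  have hmemU : ∀ g : HSU B, g ∈ U ↔ app g u = u := fun g => by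
    rw [← mem_vStab, ← hU]; rfl
  refine ⟨U, ⟨⟨W₀, ?_, ?_, ?_, t, ?_, ?_, ?_, ?_⟩, ?_⟩⟩
  · intro he
    obtain ⟨a, ha⟩ := vStab_eq_imp h h3 hu huu hf.ff
      (by rw [← hU, ← hW₀, he])
    have := hf.uf
    rw [ha, smul_right, huu, mul_zero] at this
    exact zero_ne_one this
  · intro W hW
    obtain ⟨x, hx, hxx, hWx⟩ := exists_vStab_eq h h3 W
    have hux : B u x ≠ 0 := by
      intro h0
      obtain ⟨a, ha⟩ := exists_smul_eq h h3 hu huu hxx h0
      apply hW
      refine Sylow.ext ?_
      rw [hWx, hU, ha, vStab_smul]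
      rintro rfl
      simp [ha] at hx
    obtain ⟨g, hg, hgu, hgf⟩ := h.transitive_hyperbolic (by omega) (w := f) (w' := (B u x)⁻¹ • x)
      huu hf.uf (by rw [smul_right, inv_mul_cancel₀ hux]) hf.ff
      (by rw [smul_left, smul_right, hxx, mul_zero, mul_zero])
    exact ⟨⟨g, hg⟩, (hmemU _).2 hgu, smul_vSylow h h3 hW₀ hWx (inv_ne_zero hux) hgf⟩
  · intro g hg he
    have hgu := (hmemU g).1 hg
    have hle : vStab B f ≤ vStab B (app g f) := by
      refine le_of_eq ?_
      rw [← conj_vStab, ← hW₀]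
      exact (congrArg Sylow.toSubgroup he).symm
    obtain ⟨a, ha⟩ := vStab_eq_imp h h3 hf0 hf.ff
      ((HU.map_eq (g : HU B) f f).trans hf.ff) hle
    have h1 : a = 1 := by
      have h' := HU.map_eq (g : HU B) u f
      rw [hgu, ha, smul_right, hf.uf, mul_one] at h'
      exact h'
    subst h1
    rw [one_smul] at ha
    exact hf.ext_one h h3 hgu ha
  · exact smul_vSylow h h3 hU hU h2 htu
  · exact smul_vSylow h h3 hW₀ hW₀ (inv_ne_zero h2) htf
  · intro g hg hcomm
    have hgu := (hmemU g).1 hg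
    obtain ⟨a, s, r, e1, e2, e3⟩ := hf.shape h h3 hgu
    have h1 : app t (app g f) = app g (app t f) := by rw [← app_mul, hcomm, app_mul]
    rw [htf, map_smul, e1] at h1
    simp only [map_add, map_smul, htu, htf, htw] at h1
    have ha : a = 0 := by
      have h' := congrArg (B f) h1
      simp only [map_add, smul_right, hf.fu, hf.ff, hf.fw, mul_zero, mul_one, add_zero] at h'
      field_simp at h'
      have h'' : (3 : F) * a = 0 := by linear_combination h'
      exact (mul_eq_zero.1 h'').resolve_left h30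
    have hs : s = 0 := by
      have h' := congrArg (B w) h1
      simp only [map_add, smul_right, hf.wu, hf.wf, hf.ww, mul_zero, mul_one, zero_add,
        add_zero] at h'
      field_simp at h'
      linear_combination h'
    rw [ha, hs, zero_smul, zero_smul, zero_add, add_zero] at e1
    exact hf.ext_one h h3 hgu e1
  · intro g hg hc
    obtain ⟨v, hv, c, hcs, hv0, hgv⟩ :=
      CfsgLib.LocalEven.UCenter.exists_eq_tr_of_central h h3 U hg hc
    rcases eq_or_ne c 0 with rfl | hc0
    · have h1 : g = 1 := Subtype.ext (by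
        rw [hgv]; exact Subtype.ext (LinearEquiv.ext fun y => by simp [h.tr_apply]))
      simp [h1]
    have hgu := (hmemU g).1 hg
    have hbu : B v u = 0 := by
      change ((g : HU B) : V ≃ₗ[F] V) u = u at hgu
      rw [hgv, h.tr_apply, add_eq_left, smul_eq_zero, mul_eq_zero] at hgu
      exact (hgu.resolve_right hv0).resolve_left hc0
    obtain ⟨a, ha⟩ := exists_smul_eq h h3 hu huu hv (h.eq_zero_symm hbu)
    have htv : app t v = (2 : F) • v := by rw [ha, map_smul, htu, smul_comm]
    refine Subtype.ext ?_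
    rw [Subgroup.coe_mul, Subgroup.coe_mul, Subgroup.coe_inv, SubgroupClass.coe_pow, hgv, h.conj_tr]
    refine Subtype.ext (LinearEquiv.ext fun y => ?_)
    rw [h.tr_apply, tr_pow h]
    show y + (c * B (app t v) y) • app t v = _
    rw [htv, smul_left, map_ofNat, smul_smul]
    congr 2
    push_cast
    ring
  · intro g hg
    have hfixpt : ∀ x : isoPts B, g • x = x := by
      intro x
      obtain ⟨v, hv, hvv, rfl⟩ := exists_isoPoint_eq x
      obtain ⟨P, hP⟩ := exists_sylow_eq (p := p) h h3 hv hvv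
      have hle : vStab B v ≤ vStab B (app g v) := by
        refine le_of_eq ?_
        rw [← conj_vStab, ← hP]
        exact (congrArg Sylow.toSubgroup (hg P)).symm
      have hgv : B (app g v) (app g v) = 0 := (HU.map_eq (g : HU B) v v).trans hvv
      obtain ⟨a, ha⟩ := vStab_eq_imp h h3 hv hvv hgv hle
      have hv' : app g v ≠ 0 := by simpa using hv
      rw [smul_isoPoint hv hvv hv' hgv rfl, isoPoint_eq_iff]
      exact ⟨a, ha.symm⟩
    obtain ⟨a, ha⟩ := h.eigen_of_fix_isoPts (by omega) hfixpt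
    exact (h.mem_center_HSU_iff (by omega)).2 ⟨a, ha⟩

end CfsgLib.LocalEvenB.RankOne.Unitary
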